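import Mathlib
import Groth.Agent.Eta.Basic
import Groth.Agent.S13802
import Groth.Agent.S13803
import Groth.Agent.S13812

/-!
# The pointwise construction of a field endofunctor: maps with bijective `N` and relative rings
-/

set_option autoImplicit false

universe u

open EtaPt

namespace Groth.Agent.EtaRel

variable (η : FieldEndo.{u}) {A B C : Type u} [CommRing A] [CommRing B] [CommRing C]

theorem Nmap_Nmap (f : A →+* B) (g : B →+* C) (x : η.N A) : η.Nmap g (η.Nmap f x) = η.Nmap (g.comp f) x := by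
  funext q
  rw [Eta.Nmap_apply, Eta.ev_Nmap, Eta.Nmap_apply, RingHom.comp_assoc]

theorem Nmap_id (x : η.N A) : η.Nmap (RingHom.id A) x = x := by
  funext q
  rw [Eta.Nmap_apply, RingHom.comp_id, Eta.ev_residue]

theorem Nmap_injective_of_surjective (f : A →+* B) (hs : Function.Surjective (PrimeSpectrum.comap f)) :
    Function.Injective (η.Nmap f) := by
  intro x y hxy
  funext p
  obtain ⟨q, rfl⟩ := hs p
  exact (η.map (Ideal.ResidueField.map (PrimeSpectrum.comap f q).asIdeal q.asIdeal f rfl)).injective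
    (congrFun hxy q)

theorem comap_bijective_of_Nmap (f : A →+* B) (hN : Function.Bijective (η.Nmap f)) :
    Function.Bijective (PrimeSpectrum.comap f) := by
  classical
  constructor
  · intro q q' h
    by_contra hne
    obtain ⟨x, hx⟩ := hN.2 (Pi.single q 1)
    have h1 := congrFun hx q
    have h2 := congrFun hx q'
    rw [Pi.single_eq_same] at h1
    rw [Pi.single_eq_of_ne (Ne.symm hne)] at h2
    have h1' : x (PrimeSpectrum.comap f q) = 1 :=
      (η.map (Ideal.ResidueField.map _ q.asIdeal f rfl)).injective (h1.trans (map_one _).symm)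
    have h2' : x (PrimeSpectrum.comap f q') = 0 :=
      (η.map (Ideal.ResidueField.map _ q'.asIdeal f rfl)).injective (h2.trans (map_zero _).symm)
    rw [← h] at h2'
    exact one_ne_zero (h1'.symm.trans h2')
  · intro p
    by_contra hp
    push Not at hp
    have : (Pi.single p 1 : η.N A) = 0 := hN.1 (by
      rw [map_zero]
      funext q
      show η.map _ ((Pi.single p 1 : η.N A) (PrimeSpectrum.comap f q)) = 0
      rw [Pi.single_eq_of_ne (hp q), map_zero])
    have h1 := congrFun this p
    rw [Pi.single_eq_same] at h1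
    exact one_ne_zero h1

theorem component_surjective (f : A →+* B) (hN : Function.Bijective (η.Nmap f)) (q : PrimeSpectrum B) :
    Function.Surjective (η.map (Ideal.ResidueField.map (PrimeSpectrum.comap f q).asIdeal q.asIdeal f rfl)) := by
  classical
  intro y
  obtain ⟨x, hx⟩ := hN.2 (Pi.single q y)
  exact ⟨x (PrimeSpectrum.comap f q), (congrFun hx q).trans (by rw [Pi.single_eq_same])⟩

theorem Nmap_bijective_of_factor (f : A →+* B) (hb : Function.Bijective (PrimeSpectrum.comap f))
    (h : ∀ Q : PrimeSpectrum B,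
      ∃ φ : Q.asIdeal.ResidueField →+* η.obj (PrimeSpectrum.comap f Q).asIdeal.ResidueField,
        φ.comp (Ideal.ResidueField.map (PrimeSpectrum.comap f Q).asIdeal Q.asIdeal f rfl) =
          η.eta (PrimeSpectrum.comap f Q).asIdeal.ResidueField) :
    Function.Bijective (η.Nmap f) := by
  have hs : ∀ Q : PrimeSpectrum B,
      Function.Surjective (η.map (Ideal.ResidueField.map (PrimeSpectrum.comap f Q).asIdeal Q.asIdeal f rfl)) := by
    intro Q y
    obtain ⟨φ, hφ⟩ := h Q
    obtain ⟨x, hx⟩ := (η.bijective_map_eta (PrimeSpectrum.comap f Q).asIdeal.ResidueField).2 (η.map φ y)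
    refine ⟨x, (η.map φ).injective ?_⟩
    rw [Eta.map_map_apply, hφ, hx]
  refine ⟨Nmap_injective_of_surjective η f hb.2, fun y => ?_⟩
  choose x hx using fun Q => hs Q (y Q)
  let e := Equiv.ofBijective _ hb
  refine ⟨fun p => cast (by rw [show PrimeSpectrum.comap f (e.symm p) = p from e.apply_symm_apply p]) (x (e.symm p)), ?_⟩
  funext Q
  show η.map _ (cast _ _) = _
  refine Eq.trans (congrArg _ ?_) (hx Q)
  have hQ : e.symm (PrimeSpectrum.comap f Q) = Q := e.symm_apply_apply Q
  refine eq_of_heq ((cast_heq _ _).trans ?_)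
  rw [hQ]

theorem field_ext (f : A →+* B) (hN : Function.Bijective (η.Nmap f)) {L : Type u} [Field L]
    (h h' : B →+* L) (hh : h.comp f = h'.comp f) : h = h' := by
  let q : PrimeSpectrum B := Eta.kerPt h
  have hq : Eta.kerPt h' = q := (comap_bijective_of_Nmap η f hN).1 (PrimeSpectrum.ext (Ideal.ext fun a => by
    show h' (f a) = 0 ↔ h (f a) = 0
    rw [← RingHom.comp_apply h', ← hh, RingHom.comp_apply]))
  have hker : RingHom.ker h' = q.asIdeal := congrArg PrimeSpectrum.asIdeal hq
  let φ : q.asIdeal.ResidueField →+* L := Eta.kerLift h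
  let φ' : q.asIdeal.ResidueField →+* L := Ideal.ResidueField.lift q.asIdeal h' hker.ge
    (fun a ha => isUnit_iff_ne_zero.mpr fun h0 => ha (hker ▸ h0))
  have hφ : φ.comp (algebraMap B _) = h := Eta.kerLift_comp h
  have hφ' : φ'.comp (algebraMap B _) = h' := RingHom.ext fun a => by
    rw [RingHom.comp_apply]
    exact Ideal.ResidueField.lift_algebraMap q.asIdeal h' hker.ge
      (fun a ha => isUnit_iff_ne_zero.mpr fun h0 => ha (hker ▸ h0)) a
  suffices φ = φ' by rw [← hφ, ← hφ', this]
  let res := Ideal.ResidueField.map (PrimeSpectrum.comap f q).asIdeal q.asIdeal f rfl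
  have hres : φ.comp res = φ'.comp res := by
    refine Ideal.ResidueField.ringHom_ext ?_
    have hmc : res.comp (algebraMap A _) = (algebraMap B q.asIdeal.ResidueField).comp f :=
      RingHom.ext fun a => Ideal.ResidueField.map_algebraMap _ _ _ _ a
    rw [RingHom.comp_assoc, RingHom.comp_assoc, hmc, ← RingHom.comp_assoc, ← RingHom.comp_assoc,
      hφ, hφ', hh]
  refine RingHom.ext fun y => ?_
  obtain ⟨x, hx⟩ := component_surjective η f hN q (η.eta _ y)
  obtain ⟨n, a, ha⟩ := η.exists_pow_mem_range_eta _ x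
  have hy : y ^ ringExpChar (PrimeSpectrum.comap f q).asIdeal.ResidueField ^ n = res a := by
    refine (η.eta _).injective ?_
    rw [map_pow, ← hx, ← map_pow, ← ha, Eta.eta_natural_apply]
  refine Eta.eq_of_pow_eq (φ.comp res) (n := n) ?_
  rw [← map_pow, ← map_pow, hy]
  exact DFunLike.congr_fun hres a

theorem N_ext (f : A →+* B) (hN : Function.Bijective (η.Nmap f)) (h h' : B →+* η.N C)
    (hh : h.comp f = h'.comp f) : h = h' := by
  refine RingHom.ext fun b => funext fun q => ?_
  exact DFunLike.congr_fun (field_ext η f hN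
    ((Pi.evalRingHom (fun q : PrimeSpectrum C => η.obj q.asIdeal.ResidueField) q).comp h)
    ((Pi.evalRingHom (fun q : PrimeSpectrum C => η.obj q.asIdeal.ResidueField) q).comp h')
    (by rw [RingHom.comp_assoc, RingHom.comp_assoc, hh])) b

theorem factor_of_Nmap (f : A →+* B) (hN : Function.Bijective (η.Nmap f)) (Q : PrimeSpectrum B) :
    ∃ φ : Q.asIdeal.ResidueField →+* η.obj (PrimeSpectrum.comap f Q).asIdeal.ResidueField,
      φ.comp (Ideal.ResidueField.map (PrimeSpectrum.comap f Q).asIdeal Q.asIdeal f rfl) =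
        η.eta (PrimeSpectrum.comap f Q).asIdeal.ResidueField := by
  let res := η.map (Ideal.ResidueField.map (PrimeSpectrum.comap f Q).asIdeal Q.asIdeal f rfl)
  let e := RingEquiv.ofBijective res ⟨res.injective, component_surjective η f hN Q⟩
  refine ⟨e.symm.toRingHom.comp (η.eta _), RingHom.ext fun y => ?_⟩
  show e.symm (η.eta _ _) = _
  rw [RingEquiv.symm_apply_eq]
  exact (Eta.eta_natural_apply η _ y).symm

theorem Nmap_q_bijective (hA : (minimalPrimes A).Finite) : Function.Bijective (η.Nmap (η.q A)) :=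
  Nmap_bijective_of_factor η _ (Groth.Agent.S13803.result η A hA).1 (Groth.Agent.S13803.result η A hA).2

theorem t_injective [IsReduced B] : Function.Injective (η.t B) := by
  intro x y hxy
  rw [← sub_eq_zero]
  refine IsNilpotent.eq_zero (nilpotent_iff_mem_prime.mpr fun q hq => ?_)
  have h0 : η.t B (x - y) = 0 := by rw [map_sub, hxy, sub_self]
  exact Ideal.algebraMap_residueField_eq_zero.mp
    ((η.eta _).injective ((congrFun h0 ⟨q, hq⟩).trans (map_zero _).symm))

theorem existsUnique_lift (g : A →+* B) (hg : g.IsIntegral) (hN : Function.Bijective (η.Nmap g)) :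
    ∃! g' : B →+* η.M A, g'.comp g = η.q A := by
  choose x hx hxb using fun b => (Groth.Agent.S13812.result η g hg hN).2.2 (η.t_mem_M B b)
  let g' : B →+* η.M A :=
    { toFun := fun b => ⟨x b, hx b⟩
      map_one' := Subtype.ext (hN.1 (by
        rw [hxb, map_one]
        exact (map_one _).symm))
      map_mul' := fun a b => Subtype.ext (hN.1 (by
        show η.Nmap g (x (a * b)) = η.Nmap g (x a * x b)
        rw [map_mul, hxb, hxb, hxb, map_mul]))
      map_zero' := Subtype.ext (hN.1 (by
        rw [hxb, map_zero]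
        exact (map_zero _).symm))
      map_add' := fun a b => Subtype.ext (hN.1 (by
        show η.Nmap g (x (a + b)) = η.Nmap g (x a + x b)
        rw [map_add, hxb, hxb, hxb, map_add])) }
  refine ⟨g', RingHom.ext fun a => Subtype.ext (hN.1 ?_), fun h hh => ?_⟩
  · show η.Nmap g (x (g a)) = η.Nmap g (η.t A a)
    rw [hxb, η.Nmap_t_apply]
  · refine RingHom.ext fun b => Subtype.ext ?_
    refine DFunLike.congr_fun (N_ext η g hN ((η.M A).subtype.comp h) ((η.M A).subtype.comp g') ?_) b
    refine RingHom.ext fun a => ?_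
    show ((h (g a) : η.M A) : η.N A) = x (g a)
    rw [show h (g a) = η.q A a from DFunLike.congr_fun hh a]
    exact hN.1 (by rw [hxb, ← η.Nmap_t_apply]; rfl)

theorem Nmap_lift (g : A →+* B) (hN : Function.Bijective (η.Nmap g)) (g' : B →+* η.M A)
    (hg' : g'.comp g = η.q A) (b : B) : η.Nmap g (g' b : η.N A) = η.t B b := by
  refine DFunLike.congr_fun (N_ext η g hN ((η.Nmap g).comp ((η.M A).subtype.comp g')) (η.t B) ?_) b
  refine RingHom.ext fun a => ?_
  show η.Nmap g ((g' (g a) : η.M A) : η.N A) = _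
  rw [show g' (g a) = η.q A a from DFunLike.congr_fun hg' a]
  exact η.Nmap_t_apply g a

theorem bijective_of_M (hA : (minimalPrimes A).Finite) [IsReduced B] (f : η.M A →+* B) (hf : f.IsIntegral)
    (hN : Function.Bijective (η.Nmap f)) : Function.Bijective f := by
  have hq := Groth.Agent.S13802.result η A hA
  have hqN := Nmap_q_bijective η hA
  have hg : (f.comp (η.q A)).IsIntegral := RingHom.IsIntegral.trans _ _ hq hf
  have hgN : Function.Bijective (η.Nmap (f.comp (η.q A))) := by
    have : ⇑(η.Nmap (f.comp (η.q A))) = η.Nmap f ∘ η.Nmap (η.q A) :=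
      funext fun x => (Nmap_Nmap η _ _ x).symm
    rw [this]
    exact hN.comp hqN
  obtain ⟨g', hg', -⟩ := existsUnique_lift η _ hg hgN
  have hid : g'.comp f = RingHom.id (η.M A) :=
    (existsUnique_lift η (η.q A) hq hqN).unique (by rw [RingHom.comp_assoc]; exact hg') (RingHom.id_comp _)
  have hinj : Function.Injective g' := fun a b h => t_injective η (by
    rw [← Nmap_lift η _ hgN g' hg', ← Nmap_lift η _ hgN g' hg', h])
  exact ⟨fun a b h => ((DFunLike.congr_fun hid a).symm.trans (congrArg g' h)).trans (DFunLike.congr_fun hid b),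
    fun b => ⟨g' b, hinj (DFunLike.congr_fun hid (g' b))⟩⟩

theorem q_M (hA : (minimalPrimes A).Finite) :
    (∀ x : η.M A, η.Nmap (η.q A) (x : η.N A) = η.t (η.M A) x) ∧ Function.Bijective (η.q (η.M A)) := by
  have hqN := Nmap_q_bijective η hA
  have h1 : ∀ x : η.M A, η.Nmap (η.q A) (x : η.N A) = η.t (η.M A) x := fun x =>
    Nmap_lift η (η.q A) hqN (RingHom.id _) (RingHom.id_comp _) x
  have hb := Groth.Agent.S13812.result η (η.q A) (Groth.Agent.S13802.result η A hA) hqN
  refine ⟨h1, fun a b h => Subtype.ext (hqN.1 ?_), fun y => ?_⟩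
  · rw [h1, h1]; exact congrArg Subtype.val h
  · obtain ⟨x, hx, hxy⟩ := hb.2.2 y.2
    exact ⟨⟨x, hx⟩, Subtype.ext ((h1 ⟨x, hx⟩).symm.trans hxy)⟩

section Rel

theorem exists_chi (f : A →+* B) (hinj : Function.Injective (η.Nmap f)) :
    ∃ χ : η.rel f →+* η.M A, ∀ b, η.Nmap f (χ b) = η.t B b := by
  choose x hx hxb using fun b : η.rel f => b.2
  refine ⟨⟨⟨⟨fun b => ⟨x b, hx b⟩, ?_⟩, fun a b => ?_⟩, ?_, fun a b => ?_⟩, hxb⟩
  · exact Subtype.ext (hinj (by rw [hxb]; exact (map_one _).trans (map_one _).symm))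
  · exact Subtype.ext (hinj (by
      rw [hxb]
      show _ = η.Nmap f (x a * x b)
      rw [map_mul, hxb, hxb, ← map_mul]
      rfl))
  · exact Subtype.ext (hinj (by rw [hxb]; exact (map_zero _).trans (map_zero _).symm))
  · exact Subtype.ext (hinj (by
      rw [hxb]
      show _ = η.Nmap f (x a + x b)
      rw [map_add, hxb, hxb, ← map_add]
      rfl))

theorem qRel_integral_bijective (hA : (minimalPrimes A).Finite) (f : A →+* B)
    (hs : Function.Surjective (PrimeSpectrum.comap f)) :
    (η.qRel f).IsIntegral ∧ Function.Bijective (PrimeSpectrum.comap (η.qRel f)) ∧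
      Function.Bijective (η.Nmap (η.qRel f)) := by
  have hinj := Nmap_injective_of_surjective η f hs
  obtain ⟨χ, hχ⟩ := exists_chi η f hinj
  have hχq : χ.comp (η.qRel f) = η.q A := RingHom.ext fun a => Subtype.ext (hinj (by
    rw [RingHom.comp_apply, hχ]
    exact (η.Nmap_t_apply f a).symm))
  have hnil : ∀ b : η.rel f, χ b = 0 → IsNilpotent b := fun b hb => by
    have h0 : η.t B b = 0 := by rw [← hχ b, hb]; exact map_zero _
    obtain ⟨n, hn⟩ : IsNilpotent (b : B) := nilpotent_iff_mem_prime.mpr fun q hq => by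
      have h1 := congrFun h0 ⟨q, hq⟩
      exact Ideal.algebraMap_residueField_eq_zero.mp
        ((η.eta _).injective (h1.trans (map_zero _).symm))
    exact ⟨n, Subtype.ext hn⟩
  have hqint := Groth.Agent.S13802.result η A hA
  have hint : (η.qRel f).IsIntegral := fun b => by
    obtain ⟨P, hP, hP0⟩ := hqint (χ b)
    have : χ (Polynomial.eval₂ (η.qRel f) b P) = 0 := by
      rw [Polynomial.hom_eval₂, hχq, hP0]
    obtain ⟨n, hn⟩ := hnil _ this
    refine ⟨P ^ n, hP.pow n, ?_⟩
    rw [Polynomial.eval₂_pow, hn]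
  have hχint : χ.IsIntegral := by
    refine RingHom.IsIntegral.tower_top (η.qRel f) χ ?_
    rw [hχq]
    exact hqint
  have hcsurj : Function.Surjective (PrimeSpectrum.comap χ) := fun Q => by
    let _ := χ.toAlgebra
    have : Algebra.IsIntegral (η.rel f) (η.M A) := ⟨hχint⟩
    obtain ⟨Q', hQ', hQQ'⟩ := Ideal.exists_ideal_over_prime_of_isIntegral Q.asIdeal
      (⊥ : Ideal (η.M A)) (fun b hb => by
        obtain ⟨n, hn⟩ := hnil b hb
        exact Q.isPrime.mem_of_pow_mem n (hn ▸ zero_mem _))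
    exact ⟨⟨Q', hQQ'.1⟩, PrimeSpectrum.ext hQQ'.2⟩
  have hcomp : PrimeSpectrum.comap (η.q A) = PrimeSpectrum.comap (η.qRel f) ∘ PrimeSpectrum.comap χ := by
    rw [← hχq]; rfl
  have hqb := (Groth.Agent.S13803.result η A hA).1
  have hb : Function.Bijective (PrimeSpectrum.comap (η.qRel f)) := by
    rw [hcomp] at hqb
    refine ⟨fun Q Q' h => ?_, fun p => ?_⟩
    · obtain ⟨R, rfl⟩ := hcsurj Q
      obtain ⟨R', rfl⟩ := hcsurj Q'
      rw [hqb.1 h]
    · obtain ⟨R, rfl⟩ := hqb.2 p
      exact ⟨_, rfl⟩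
  refine ⟨hint, hb, ?_⟩
  -- bijectivity of `N`: `q A` factors as `χ ∘ qRel f`
  have hχinj : Function.Injective (η.Nmap χ) := Nmap_injective_of_surjective η χ hcsurj
  refine ⟨Nmap_injective_of_surjective η _ hb.2, fun y => ?_⟩
  obtain ⟨x, hx⟩ := (Nmap_q_bijective η hA).2 (η.Nmap χ y)
  exact ⟨x, hχinj (by rw [Nmap_Nmap, hχq, hx])⟩

theorem map_mem_rel_of_square {A' B' : Type u} [CommRing A'] [CommRing B'] (j : A →+* B) (f : A →+* A')
    (g : B →+* B') (j' : A' →+* B') (hcomm : j'.comp f = g.comp j) {b : B} (hb : b ∈ η.rel j) :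
    g b ∈ η.rel j' := by
  obtain ⟨x, hx, hxb⟩ := hb
  refine ⟨η.Nmap f x, Eta.Nmap_mem_M η f hx, ?_⟩
  rw [Nmap_Nmap, hcomm, ← Nmap_Nmap, hxb, η.Nmap_t_apply]

theorem range_le_rel (f₁ : A →+* B) (f₂ : B →+* C) (h₁ : f₁.IsIntegral) (hN : Function.Bijective (η.Nmap f₁)) :
    f₂.range ≤ η.rel (f₂.comp f₁) := by
  rintro _ ⟨b, rfl⟩
  obtain ⟨x, hx, hxb⟩ := (Groth.Agent.S13812.result η f₁ h₁ hN).2.2 (η.t_mem_M B b)
  exact ⟨x, hx, by rw [← Nmap_Nmap, hxb, η.Nmap_t_apply]⟩

theorem qRel_injective_iff (f : A →+* B) : Function.Injective (η.qRel f) ↔ Function.Injective f :=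
  ⟨fun h a b hab => h (Subtype.ext hab), fun h a b hab => h (congrArg Subtype.val hab)⟩

theorem qRel_bijective_iff (f : A →+* B) :
    Function.Bijective (η.qRel f) ↔ Function.Injective f ∧ ∀ b ∈ η.rel f, ∃ a, f a = b :=
  ⟨fun h => ⟨(qRel_injective_iff η f).mp h.1, fun b hb => by
      obtain ⟨a, ha⟩ := h.2 ⟨b, hb⟩
      exact ⟨a, congrArg Subtype.val ha⟩⟩,
    fun h => ⟨(qRel_injective_iff η f).mpr h.1, fun b => by
      obtain ⟨a, ha⟩ := h.2 b b.2
      exact ⟨a, Subtype.ext ha⟩⟩⟩

theorem bijective_comp (f : A →+* B) (g : B →+* C) (hg : Function.Surjective (PrimeSpectrum.comap g)) :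
    (Function.Bijective (η.qRel f) → Function.Bijective (η.qRel g) → Function.Bijective (η.qRel (g.comp f))) ∧
      (Function.Injective g → Function.Bijective (η.qRel (g.comp f)) → Function.Bijective (η.qRel f)) := by
  constructor
  · intro h1 h2
    obtain ⟨fi, fs⟩ := (qRel_bijective_iff η f).mp h1
    obtain ⟨gi, gs⟩ := (qRel_bijective_iff η g).mp h2
    refine (qRel_bijective_iff η _).mpr ⟨gi.comp fi, fun c hc => ?_⟩
    obtain ⟨x, hx, hxc⟩ := hc
    rw [← Nmap_Nmap] at hxc
    obtain ⟨b, rfl⟩ := gs c ⟨_, Eta.Nmap_mem_M η f hx, hxc⟩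
    obtain ⟨a, rfl⟩ := fs b ⟨x, hx, Nmap_injective_of_surjective η g hg (by rw [hxc, η.Nmap_t_apply])⟩
    exact ⟨a, rfl⟩
  · intro gi h
    obtain ⟨hi, hs⟩ := (qRel_bijective_iff η _).mp h
    refine (qRel_bijective_iff η f).mpr ⟨fun a b hab => hi (congrArg g hab), fun b hb => ?_⟩
    obtain ⟨a, ha⟩ := hs (g b) (map_mem_rel_of_square η f (RingHom.id A) g (g.comp f) (RingHom.comp_id _) hb)
    exact ⟨a, gi ha⟩

theorem bijective_of_square {A' B' : Type u} [CommRing A'] [CommRing B'] (j : A →+* B) (f : A →+* A')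
    (g : B →+* B') (j' : A' →+* B') (hcomm : j'.comp f = g.comp j)
    (hcart : ∀ (a' : A') (b : B), j' a' = g b → ∃! a : A, f a = a' ∧ j a = b)
    (h : Function.Bijective (η.qRel j')) : Function.Bijective (η.qRel j) := by
  obtain ⟨hi, hs⟩ := (qRel_bijective_iff η j').mp h
  refine (qRel_bijective_iff η j).mpr ⟨fun a b hab => ?_, fun b hb => ?_⟩
  · have e : f a = f b := hi (by
      rw [← RingHom.comp_apply, hcomm, RingHom.comp_apply, hab, ← RingHom.comp_apply, ← hcomm, RingHom.comp_apply])
    exact (hcart (f b) (j b) (DFunLike.congr_fun hcomm b)).unique ⟨e, hab⟩ ⟨rfl, rfl⟩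
  · obtain ⟨a', ha'⟩ := hs (g b) (map_mem_rel_of_square η j f g j' hcomm hb)
    obtain ⟨a, ⟨-, ha⟩, -⟩ := hcart a' b ha'
    exact ⟨a, ha⟩

open scoped TensorProduct in
theorem bijective_of_faithfullyFlat (A A' B : Type u) [CommRing A] [CommRing A'] [CommRing B]
    [Algebra A A'] [Algebra A B] [Module.FaithfullyFlat A A']
    (h : Function.Bijective (η.qRel (Algebra.TensorProduct.includeLeftRingHom : A' →+* A' ⊗[A] B))) :
    Function.Bijective (η.qRel (algebraMap A B)) := by
  obtain ⟨hi, hs⟩ := (qRel_bijective_iff η _).mp h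
  have hcomm : (Algebra.TensorProduct.includeLeftRingHom : A' →+* A' ⊗[A] B).comp (algebraMap A A') =
      (Algebra.TensorProduct.includeRight : B →ₐ[A] A' ⊗[A] B).toRingHom.comp (algebraMap A B) := by
    refine RingHom.ext fun a => ?_
    show algebraMap A A' a ⊗ₜ[A] (1 : B) = (1 : A') ⊗ₜ[A] algebraMap A B a
    rw [Algebra.algebraMap_eq_smul_one, Algebra.algebraMap_eq_smul_one, TensorProduct.smul_tmul]
  refine (qRel_bijective_iff η _).mpr ⟨fun a b hab => ?_, fun b hb => ?_⟩
  · refine FaithfulSMul.algebraMap_injective A A' (hi ?_)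
    rw [← RingHom.comp_apply, hcomm, RingHom.comp_apply, hab, ← RingHom.comp_apply, ← hcomm, RingHom.comp_apply]
  · obtain ⟨a', ha'⟩ := hs _ (map_mem_rel_of_square η _ _ _ _ hcomm hb)
    let N : Submodule A B := LinearMap.range (Algebra.linearMap A B)
    have h0 : (1 : A') ⊗ₜ[A] N.mkQ b = 0 := by
      have e := congrArg (LinearMap.lTensor A' N.mkQ) ha'
      change a' ⊗ₜ[A] N.mkQ 1 = (1 : A') ⊗ₜ[A] N.mkQ b at e
      rw [← e, show N.mkQ 1 = 0 from (Submodule.Quotient.mk_eq_zero _).mpr ⟨1, map_one (algebraMap A B)⟩, TensorProduct.tmul_zero]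
    have hb' : N.mkQ b = 0 :=
      Module.FaithfullyFlat.tensorProduct_mk_injective (A := A) (B := A') (B ⧸ N) (h0.trans (by simp))
    obtain ⟨a, ha⟩ := (Submodule.Quotient.mk_eq_zero _).mp hb'
    exact ⟨a, ha⟩

theorem rel_integralClosure (A B : Type u) [CommRing A] [CommRing B] [Algebra A B]
    (hA : (minimalPrimes A).Finite) (hs : Function.Surjective (PrimeSpectrum.comap (algebraMap A B))) :
    (η.rel (algebraMap A (integralClosure A B))).map (integralClosure A B).val.toRingHom =
      η.rel (algebraMap A B) := by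
  let f := algebraMap A B
  let ι := (integralClosure A B).val.toRingHom
  refine le_antisymm ?_ fun b hb => ?_
  · rintro _ ⟨c, hc, rfl⟩
    exact map_mem_rel_of_square η _ (RingHom.id A) ι f (by
      rw [RingHom.comp_id]
      exact RingHom.ext fun a => rfl) hc
  · obtain ⟨hint, -, hN⟩ := qRel_integral_bijective η hA f hs
    obtain ⟨χ, hχ⟩ := exists_chi η f (Nmap_injective_of_surjective η f hs)
    have hmem : ∀ c : η.rel f, (c : B) ∈ integralClosure A B := fun c => by
      obtain ⟨P, hP, hP0⟩ := hint c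
      refine ⟨P, hP, ?_⟩
      have h2 := congrArg (η.rel f).subtype hP0
      rw [Polynomial.hom_eval₂, map_zero] at h2
      exact h2
    let incl : η.rel f →+* integralClosure A B :=
      { toFun := fun c => ⟨c, hmem c⟩
        map_one' := rfl
        map_mul' := fun _ _ => rfl
        map_zero' := rfl
        map_add' := fun _ _ => rfl }
    have hχq : χ.comp (η.qRel f) = η.q A :=
      RingHom.ext fun a => Subtype.ext (Nmap_injective_of_surjective η f hs (by
        rw [RingHom.comp_apply, hχ]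
        exact (η.Nmap_t_apply f a).symm))
    have he := N_ext η (η.qRel f) hN ((η.Nmap (algebraMap A (integralClosure A B))).comp ((η.M A).subtype.comp χ))
      ((η.t (integralClosure A B)).comp incl) (RingHom.ext fun a => by
        simp only [RingHom.comp_apply]
        rw [show χ (η.qRel f a) = η.q A a from DFunLike.congr_fun hχq a]
        exact η.Nmap_t_apply _ a)
    exact ⟨incl ⟨b, hb⟩, ⟨_, (χ ⟨b, hb⟩).2, DFunLike.congr_fun he ⟨b, hb⟩⟩, rfl⟩

end Rel

end Groth.Agent.EtaRel
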