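import Groth.Agent.EtaRel.Local

/-!
# Gluing and functoriality of the pointwise construction
-/

set_option autoImplicit false

universe u

open EtaPt

namespace Groth.Agent.EtaRel

variable (η : FieldEndo.{u}) {A B : Type u} [CommRing A] [CommRing B]

theorem bijective_qRel_away (hA : (minimalPrimes A).Finite) (φ : A →+* B) (h : Function.Bijective (η.qRel φ)) (f : A) :
    Function.Bijective (η.qRel (Localization.awayMap φ f)) := by
  obtain ⟨hi, hs⟩ := (qRel_bijective_iff η φ).mp h
  have hcomm : ∀ a, Localization.awayMap φ f (algebraMap A (Localization.Away f) a) =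
      algebraMap B (Localization.Away (φ f)) (φ a) := fun a => IsLocalization.map_eq _ a
  refine (qRel_bijective_iff η _).mpr ⟨fun u v huv => ?_, fun y hy => ?_⟩
  · obtain ⟨k, a, hu⟩ := IsLocalization.Away.surj f u
    obtain ⟨l, b, hv⟩ := IsLocalization.Away.surj f v
    have h1 := congrArg (Localization.awayMap φ f) hu
    have h2 := congrArg (Localization.awayMap φ f) hv
    rw [map_mul, map_pow, hcomm, hcomm, huv] at h1
    rw [map_mul, map_pow, hcomm, hcomm] at h2
    have h3 : algebraMap B (Localization.Away (φ f)) (φ (a * f ^ l)) =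
        algebraMap B (Localization.Away (φ f)) (φ (b * f ^ k)) := by
      simp only [map_mul, map_pow, ← h1, ← h2]
      ring
    obtain ⟨⟨c, m, rfl⟩, hc⟩ := (IsLocalization.eq_iff_exists (Submonoid.powers (φ f)) _).mp h3
    simp only [← map_pow, ← map_mul] at hc
    have h4 := congrArg (algebraMap A (Localization.Away f)) (hi hc)
    have hu' := (IsLocalization.Away.algebraMap_isUnit (S := Localization.Away f) f)
    simp only [map_mul, map_pow, ← hu, ← hv] at h4
    refine (hu'.pow (m + k + l)).mul_left_cancel ?_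
    simp only [pow_add]
    linear_combination h4
  · obtain ⟨x, hx, n, hxy⟩ := (rel_away η φ f (finite_minimalPrimes_away hA f)).2 y hy
    obtain ⟨a, rfl⟩ := hs x hx
    refine ⟨algebraMap A (Localization.Away f) a * IsLocalization.Away.invSelf f ^ n, ?_⟩
    have hu := IsLocalization.Away.algebraMap_isUnit (S := Localization.Away (φ f)) (φ f)
    refine (hu.pow n).mul_right_cancel ?_
    rw [hxy, ← hcomm f, ← map_pow (Localization.awayMap φ f), ← map_mul, mul_assoc, ← mul_pow, mul_comm (IsLocalization.Away.invSelf f),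
      IsLocalization.Away.mul_invSelf, one_pow, mul_one, hcomm]

theorem bijective_qRel_of_span (φ : A →+* B) (s : Finset A) (hspan : Ideal.span (s : Set A) = ⊤)
    (h : ∀ f ∈ s, Function.Bijective (η.qRel (Localization.awayMap φ f))) : Function.Bijective (η.qRel φ) := by
  have hcomm : ∀ f, (Localization.awayMap φ f).comp (algebraMap A (Localization.Away f)) =
      (algebraMap B (Localization.Away (φ f))).comp φ := fun f => IsLocalization.map_comp _
  refine (qRel_bijective_iff η φ).mpr ⟨(injective_iff_map_eq_zero φ).mpr fun a ha => ?_, fun b hb => ?_⟩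
  · have h0 : ∀ f ∈ s, f ∈ Ideal.radical (LinearMap.ker (LinearMap.toSpanSingleton A A a)) := fun f hf => by
      have h2 : algebraMap A (Localization.Away f) a = 0 :=
        ((qRel_bijective_iff η _).mp (h f hf)).1 (by
          rw [map_zero, ← RingHom.comp_apply, hcomm, RingHom.comp_apply, ha, map_zero])
      obtain ⟨⟨c, m, rfl⟩, hc⟩ := (IsLocalization.map_eq_zero_iff (Submonoid.powers f) _ a).mp h2
      exact ⟨m, by rw [LinearMap.mem_ker, LinearMap.toSpanSingleton_apply, smul_eq_mul]; exact hc⟩
    have h1 : (1 : A) ∈ LinearMap.ker (LinearMap.toSpanSingleton A A a) :=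
      (Ideal.eq_top_iff_one _).mp (Ideal.radical_eq_top.mp (top_le_iff.mp (hspan ▸ Ideal.span_le.mpr h0)))
    simpa using h1
  · let I : Ideal A :=
      { carrier := {r | φ r * b ∈ φ.range}
        zero_mem' := ⟨0, by simp⟩
        add_mem' := fun {r r'} hr hr' => by
          show φ (r + r') * b ∈ φ.range
          rw [map_add, add_mul]; exact add_mem hr hr'
        smul_mem' := fun c r hr => by
          show φ (c • r) * b ∈ φ.range
          rw [smul_eq_mul, map_mul, mul_assoc]; exact mul_mem ⟨c, rfl⟩ hr }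
    have hpow : ∀ f ∈ s, f ∈ I.radical := fun f hf => by
      obtain ⟨u, hu⟩ := ((qRel_bijective_iff η _).mp (h f hf)).2 _ (map_mem_rel_of_square η φ _ _ _ (hcomm f) hb)
      obtain ⟨k, a, ha⟩ := IsLocalization.Away.surj f u
      have h1 := congrArg (Localization.awayMap φ f) ha
      simp only [map_mul, map_pow, hu] at h1
      rw [show (Localization.awayMap φ f) (algebraMap A (Localization.Away f) f) = algebraMap B _ (φ f) from DFunLike.congr_fun (hcomm f) f,
        show (Localization.awayMap φ f) (algebraMap A (Localization.Away f) a) = algebraMap B _ (φ a) from DFunLike.congr_fun (hcomm f) a,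
        ← map_pow, ← map_mul] at h1
      obtain ⟨⟨c, m, rfl⟩, hc⟩ := (IsLocalization.eq_iff_exists (Submonoid.powers (φ f)) _).mp h1
      exact ⟨m + k, f ^ m * a, by
        simp only [map_mul, map_pow, pow_add]
        rw [← hc]; ring⟩
    have h1 : (1 : A) ∈ I := by
      rw [← Ideal.eq_top_iff_one]
      exact Ideal.radical_eq_top.mp (top_le_iff.mp (hspan ▸ Ideal.span_le.mpr hpow))
    obtain ⟨a, ha⟩ := (h1 : φ 1 * b ∈ φ.range)
    exact ⟨a, by rw [ha, map_one, one_mul]⟩

theorem Mmap_square (f : A →+* B) (g : η.M A →+* η.M B)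
    (hg : ∀ x : η.M A, ((g x : η.M B) : η.N B) = η.Nmap f (x : η.N A)) :
    g.comp (η.q A) = (η.q B).comp f :=
  RingHom.ext fun a => Subtype.ext ((hg _).trans (η.Nmap_t_apply f a))

theorem isIntegral_iff_Mmap (hA : (minimalPrimes A).Finite) (hB : (minimalPrimes B).Finite) (f : A →+* B)
    (g : η.M A →+* η.M B) (hg : ∀ x : η.M A, ((g x : η.M B) : η.N B) = η.Nmap f (x : η.N A)) :
    (f.IsIntegral ↔ g.IsIntegral) ∧
      (Function.Surjective (PrimeSpectrum.comap f) ↔ Function.Surjective (PrimeSpectrum.comap g)) := by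
  have hsq := Mmap_square η f g hg
  constructor
  · refine ⟨fun hf => RingHom.IsIntegral.tower_top (η.q A) g ?_, fun hg' b => ?_⟩
    · rw [hsq]; exact RingHom.IsIntegral.trans _ _ hf (Groth.Agent.S13802.result η B hB)
    · have h1 := RingHom.IsIntegral.trans _ _ (Groth.Agent.S13802.result η A hA) hg'
      rw [hsq] at h1
      obtain ⟨P, hP, hP0⟩ := h1 (η.q B b)
      rw [← Polynomial.hom_eval₂] at hP0
      obtain ⟨n, hn⟩ : IsNilpotent (Polynomial.eval₂ f b P) := nilpotent_iff_mem_prime.mpr fun q hq =>
        (t_apply_eq_zero_iff η ⟨q, hq⟩ _).mp (congrFun (congrArg Subtype.val hP0) ⟨q, hq⟩)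
      exact ⟨P ^ n, hP.pow n, by rw [Polynomial.eval₂_pow, hn]⟩
  · have hc : PrimeSpectrum.comap (η.q A) ∘ PrimeSpectrum.comap g =
        PrimeSpectrum.comap f ∘ PrimeSpectrum.comap (η.q B) := by
      rw [← PrimeSpectrum.comap_comp, ← PrimeSpectrum.comap_comp, hsq]
    have hqA := (Groth.Agent.S13803.result η A hA).1
    have hqB := (Groth.Agent.S13803.result η B hB).1
    refine ⟨fun hf => ?_, fun hg' => ?_⟩
    · exact (Function.Surjective.of_comp_iff' hqA _).mp (by rw [hc]; exact hf.comp hqB.2)
    · exact Function.Surjective.of_comp (g := PrimeSpectrum.comap (η.q B)) (hc ▸ hqA.2.comp hg')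

theorem of_Mmap_bijective (hA : (minimalPrimes A).Finite) (hB : (minimalPrimes B).Finite) (f : A →+* B)
    (g : η.M A →+* η.M B) (hg : ∀ x : η.M A, ((g x : η.M B) : η.N B) = η.Nmap f (x : η.N A))
    (hbij : Function.Bijective g) :
    Function.Bijective (PrimeSpectrum.comap f) ∧
      ∀ Q : PrimeSpectrum B,
        ∃ φ : Q.asIdeal.ResidueField →+* η.obj (PrimeSpectrum.comap f Q).asIdeal.ResidueField,
          φ.comp (Ideal.ResidueField.map (PrimeSpectrum.comap f Q).asIdeal Q.asIdeal f rfl) =
            η.eta (PrimeSpectrum.comap f Q).asIdeal.ResidueField := by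
  have hsq := Mmap_square η f g hg
  let e := RingEquiv.ofBijective g hbij
  have hN : Function.Bijective (η.Nmap g) := by
    refine Function.bijective_iff_has_inverse.mpr ⟨η.Nmap e.symm.toRingHom, fun x => ?_, fun x => ?_⟩
    · rw [Nmap_Nmap, show e.symm.toRingHom.comp g = RingHom.id _ from RingHom.ext e.symm_apply_apply, Nmap_id]
    · rw [Nmap_Nmap, show g.comp e.symm.toRingHom = RingHom.id _ from RingHom.ext e.apply_symm_apply, Nmap_id]
  have hf : Function.Bijective (η.Nmap f) := by
    have heq : ⇑(η.Nmap (η.q B)) ∘ η.Nmap f = η.Nmap g ∘ η.Nmap (η.q A) := funext fun x => by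
      simp only [Function.comp_apply, Nmap_Nmap, hsq]
    exact (Function.Bijective.of_comp_iff' (Nmap_q_bijective η hB) _).mp (heq ▸ hN.comp (Nmap_q_bijective η hA))
  exact ⟨comap_bijective_of_Nmap η f hf, fun Q => factor_of_Nmap η f hf Q⟩

end Groth.Agent.EtaRel
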