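import Groth.Agent.EtaRel.Basic
import Groth.Agent.S13809
import Groth.Agent.S13824
import Groth.Prelude.Def_EGA4b

/-!
# The pointwise construction and localisation
-/

set_option autoImplicit false

universe u

open EtaPt

namespace Groth.Agent.EtaRel

variable (η : FieldEndo.{u}) {A B : Type u} [CommRing A] [CommRing B]

theorem t_apply (p : PrimeSpectrum A) (a : A) :
    η.t A a p = η.eta _ (algebraMap A p.asIdeal.ResidueField a) := rfl

theorem t_apply_eq_zero_iff (p : PrimeSpectrum A) (a : A) : η.t A a p = 0 ↔ a ∈ p.asIdeal := by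
  rw [t_apply]
  exact (map_eq_zero_iff _ (η.eta _).injective).trans (Ideal.algebraMap_residueField_eq_zero (I := p.asIdeal))

theorem eq_of_away_of_vanish (f : A) {u v : η.N A}
    (h : η.Nmap (algebraMap A (Localization.Away f)) u = η.Nmap (algebraMap A (Localization.Away f)) v)
    (hu : ∀ p : PrimeSpectrum A, f ∈ p.asIdeal → u p = 0) (hv : ∀ p : PrimeSpectrum A, f ∈ p.asIdeal → v p = 0) :
    u = v := by
  obtain ⟨n, hn⟩ := (Groth.Agent.S13824.result η A f).2 (u - v) (by rw [map_sub, h, sub_self])
  funext p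
  by_cases hp : f ∈ p.asIdeal
  · rw [hu p hp, hv p hp]
  · have h1 := congrFun hn p
    rw [Pi.mul_apply, Pi.pow_apply, Pi.zero_apply, mul_eq_zero, Pi.sub_apply, sub_eq_zero] at h1
    exact h1.resolve_left (pow_ne_zero n fun h0 => hp ((t_apply_eq_zero_iff η p f).mp h0))

theorem finite_minimalPrimes_away (hA : (minimalPrimes A).Finite) (f : A) :
    (minimalPrimes (Localization.Away f)).Finite := by
  have h := IsLocalization.minimalPrimes_map (Submonoid.powers f) (Localization.Away f) (⊥ : Ideal A)
  rw [Ideal.map_bot] at h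
  change ((⊥ : Ideal (Localization.Away f))).minimalPrimes.Finite
  rw [h]
  exact hA.preimage fun I _ J _ hIJ =>
    (IsLocalization.orderEmbedding (Submonoid.powers f) (Localization.Away f)).injective hIJ

theorem M_away (f : A) (hA' : (minimalPrimes (Localization.Away f)).Finite) {y : η.N (Localization.Away f)}
    (hy : y ∈ η.M (Localization.Away f)) :
    ∃ x ∈ η.M A, ∃ n : ℕ, y * η.t (Localization.Away f) (algebraMap A (Localization.Away f) f) ^ n =
      η.Nmap (algebraMap A (Localization.Away f)) x ∧ ∀ p : PrimeSpectrum A, f ∈ p.asIdeal → x p = 0 := by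
  classical
  let am := algebraMap A (Localization.Away f)
  letI : Algebra (Localization.Away f) (η.M (Localization.Away f)) := (η.q _).toAlgebra
  letI : Algebra A (η.M (Localization.Away f)) := ((η.q _).comp am).toAlgebra
  haveI : IsScalarTower A (Localization.Away f) (η.M (Localization.Away f)) := IsScalarTower.of_algebraMap_eq fun _ => rfl
  obtain ⟨⟨m, n, rfl⟩, hm⟩ := IsIntegral.exists_multiple_integral_of_isLocalization (R := A)
    (Rₘ := Localization.Away f) (Submonoid.powers f) (⟨y, hy⟩ : η.M (Localization.Away f))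
    (Groth.Agent.S13802.result η _ hA' ⟨y, hy⟩)
  let y' : η.M (Localization.Away f) := η.q _ (am (f ^ n)) * ⟨y, hy⟩
  have hy'int : IsIntegral A y' := by
    rw [Submonoid.smul_def, Algebra.smul_def] at hm
    exact hm
  obtain ⟨w, m', hw⟩ := (Groth.Agent.S13824.result η A f).1 (y' : η.N (Localization.Away f))
  let x : η.N A := η.t A f * w
  have hxam : η.Nmap am x = (y' : η.N _) * η.t (Localization.Away f) (am f) ^ (m' + 1) := by
    show η.Nmap am (η.t A f * w) = _
    rw [map_mul, η.Nmap_t_apply, ← hw, pow_succ]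
    ring
  refine ⟨x, ?_, n + (m' + 1), ?_, fun p hp => ?_⟩
  · rw [Eta.mem_M_iff]
    intro R _ _ _ hR g
    by_cases hgf : g f = 0
    · refine ⟨0, fun q => ?_⟩
      rw [map_zero, map_zero, show x = η.t A f * w from rfl, map_mul, Eta.ev_t, RingHom.comp_apply, hgf, map_zero,
        map_zero, zero_mul]
    have hK : Function.Bijective (η.eta (FractionRing R)) := hR
    let K := FractionRing R
    have hu : IsUnit (((algebraMap R K).comp g) f) :=
      isUnit_iff_ne_zero.mpr fun h0 => hgf (IsFractionRing.injective R K (h0.trans (map_zero _).symm))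
    let h : Localization.Away f →+* K := IsLocalization.Away.lift f hu
    have hh : h.comp am = (algebraMap R K).comp g := IsLocalization.Away.lift_comp f hu
    let z := Eta.val η hK h (y' : η.N _)
    obtain ⟨r0, hr0⟩ : ∃ r0 : R, algebraMap R K r0 = z := by
      refine IsIntegrallyClosed.isIntegral_iff.mp ?_
      obtain ⟨P, hP, hP0⟩ := hy'int
      refine ⟨P.map g, hP.map g, ?_⟩
      have h1 := congrArg ((Eta.val η hK h).comp (η.M (Localization.Away f)).subtype) hP0
      rw [Polynomial.hom_eval₂, map_zero] at h1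
      rw [Polynomial.eval₂_map, ← hh]
      refine Eq.trans ?_ h1
      congr 1
      exact RingHom.ext fun a => (Eta.val_t η hK h (am a)).symm
    refine ⟨g f ^ (m' + 1) * r0, fun q => ?_⟩
    by_cases hq : g f ∈ q.asIdeal
    · have h0 : algebraMap R q.asIdeal.ResidueField (g f) = 0 := Ideal.algebraMap_residueField_eq_zero.mpr hq
      rw [show x = η.t A f * w from rfl, map_mul, Eta.ev_t, RingHom.comp_apply, h0, map_zero, zero_mul,
        map_mul, map_pow, h0, zero_pow (Nat.succ_ne_zero m'), zero_mul, map_zero]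
    · have hu' : IsUnit (((algebraMap R q.asIdeal.ResidueField).comp g) f) :=
        isUnit_iff_ne_zero.mpr fun h0 => hq (Ideal.algebraMap_residueField_eq_zero.mp h0)
      let h' : Localization.Away f →+* q.asIdeal.ResidueField := IsLocalization.Away.lift f hu'
      have hh' : h'.comp am = (algebraMap R q.asIdeal.ResidueField).comp g := IsLocalization.Away.lift_comp f hu'
      obtain ⟨V, gR, hgR, hgRq⟩ := Eta.exists_dominate (algebraMap R K) q (by
        rw [(RingHom.injective_iff_ker_eq_bot _).mp (IsFractionRing.injective R K)]; exact bot_le)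
      have huV : IsUnit ((gR.comp g) f) := IsLocalRing.notMem_maximalIdeal.mp fun h0 => hq (hgRq ▸ h0)
      let gV : Localization.Away f →+* V := IsLocalization.Away.lift f huV
      have hgVc : gV.comp am = gR.comp g := IsLocalization.Away.lift_comp f huV
      have hgV : ∀ a, (gV a : K) = h a := fun a => by
        refine DFunLike.congr_fun (show V.subtype.comp gV = h from
          IsLocalization.ringHom_ext (Submonoid.powers f) ?_) a
        rw [RingHom.comp_assoc, hgVc, hh]
        exact RingHom.ext fun a => hgR (g a)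
      obtain ⟨hv, hev⟩ := Eta.val_spec η hK h V gV hgV y'.2
      have hker : q.asIdeal = RingHom.ker ((IsLocalRing.residue V).comp gR) := by
        rw [← RingHom.comap_ker, IsLocalRing.ker_residue, hgRq]
      let j : q.asIdeal.ResidueField →+* IsLocalRing.ResidueField V :=
        Ideal.ResidueField.lift q.asIdeal ((IsLocalRing.residue V).comp gR) hker.le
          (fun a ha => isUnit_iff_ne_zero.mpr fun h' => ha (hker ▸ h'))
      have hj : j.comp (algebraMap R _) = (IsLocalRing.residue V).comp gR :=
        RingHom.ext fun a => by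
          rw [RingHom.comp_apply]
          exact Ideal.ResidueField.lift_algebraMap q.asIdeal _ hker.le
            (fun a ha => isUnit_iff_ne_zero.mpr fun h' => ha (hker ▸ h')) a
      have hjh : j.comp h' = (IsLocalRing.residue V).comp gV := by
        refine IsLocalization.ringHom_ext (Submonoid.powers f) ?_
        rw [RingHom.comp_assoc, RingHom.comp_assoc, hh', hgVc, ← RingHom.comp_assoc, hj, RingHom.comp_assoc]
      have hr0' : (⟨_, hv⟩ : V) = gR r0 := Subtype.ext (hr0.symm.trans (hgR r0).symm)
      have hy'q : Eta.ev η h' (y' : η.N _) = η.eta _ (algebraMap R q.asIdeal.ResidueField r0) := by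
        refine (η.map j).injective ?_
        rw [Eta.map_ev, hjh, hev, hr0', Eta.eta_natural_apply]
        exact congrArg _ (DFunLike.congr_fun hj r0).symm
      rw [← hh', ← Eta.ev_Nmap, hxam, map_mul, map_pow, hy'q, Eta.ev_t, ← RingHom.comp_apply h', hh',
        map_mul, map_pow, map_mul, map_pow, RingHom.comp_apply]
      ring
  · rw [hxam]
    show _ = (η.t (Localization.Away f) (am (f ^ n)) * y) * _
    rw [map_pow, map_pow, pow_add]
    ring
  · rw [show x = η.t A f * w from rfl, Pi.mul_apply, (t_apply_eq_zero_iff η p f).mpr hp, zero_mul]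

theorem rel_away (φ : A →+* B) (f : A) (hA' : (minimalPrimes (Localization.Away f)).Finite) :
    (η.rel φ).map (algebraMap B (Localization.Away (φ f))) ≤ η.rel (Localization.awayMap φ f) ∧
      ∀ y ∈ η.rel (Localization.awayMap φ f), ∃ x ∈ η.rel φ, ∃ n : ℕ,
        y * algebraMap B (Localization.Away (φ f)) (φ f) ^ n = algebraMap B (Localization.Away (φ f)) x := by
  have hcomm : (Localization.awayMap φ f).comp (algebraMap A (Localization.Away f)) =
      (algebraMap B (Localization.Away (φ f))).comp φ :=
    IsLocalization.map_comp _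
  refine ⟨?_, fun y hy => ?_⟩
  · rintro _ ⟨b, hb, rfl⟩
    exact map_mem_rel_of_square η φ _ _ _ hcomm hb
  obtain ⟨w, hw, hwy⟩ := hy
  obtain ⟨x, hx, n, hxw, hx0⟩ := M_away η f hA' hw
  obtain ⟨k, b, hb⟩ := IsLocalization.Away.surj (φ f) y
  refine ⟨b * φ f ^ (n + 1), ⟨η.t A f ^ (k + 1) * x, mul_mem (pow_mem (η.t_mem_M A f) _) hx, ?_⟩, k + (n + 1), ?_⟩
  · refine eq_of_away_of_vanish η (φ f) ?_ (fun p hp => ?_) (fun p hp => ?_)
    · have e : (Localization.awayMap φ f) (algebraMap A (Localization.Away f) f) =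
          algebraMap B (Localization.Away (φ f)) (φ f) := DFunLike.congr_fun hcomm f
      rw [η.Nmap_t_apply, Nmap_Nmap, ← hcomm, ← Nmap_Nmap, map_mul (η.Nmap (algebraMap A _)), ← hxw]
      simp only [map_mul, map_pow, η.Nmap_t_apply, hwy, e]
      rw [← hb]
      simp only [map_mul, map_pow]
      ring
    · rw [map_mul, map_pow, η.Nmap_t_apply, Pi.mul_apply, Pi.pow_apply, (t_apply_eq_zero_iff η p (φ f)).mpr hp,
        zero_pow (Nat.succ_ne_zero k), zero_mul]
    · rw [map_mul, map_pow, Pi.mul_apply, Pi.pow_apply, (t_apply_eq_zero_iff η p (φ f)).mpr hp,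
        zero_pow (Nat.succ_ne_zero n), mul_zero]
  · rw [map_mul, map_pow, ← hb, mul_assoc, ← pow_add]

theorem bijective_integralClosure (A A' : Type u) [CommRing A] [CommRing A'] [Algebra A A']
    [Module.FaithfullyFlat A A']
    (h : Function.Bijective (η.qRel (algebraMap A' (integralClosure A' (FractionRing A'))))) :
    Function.Bijective (η.qRel (algebraMap A (integralClosure A (FractionRing A)))) := by
  obtain ⟨-, hs⟩ := (qRel_bijective_iff η _).mp h
  have hreg : ∀ s : nonZeroDivisors A, IsUnit ((algebraMap A' (FractionRing A')).comp (algebraMap A A') s) := fun s => by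
    refine IsLocalization.map_units (FractionRing A') (⟨algebraMap A A' s, ?_⟩ : nonZeroDivisors A')
    refine mem_nonZeroDivisors_iff_right.mpr fun z hz => ?_
    have hinj : Function.Injective (LinearMap.lTensor A' (LinearMap.mulLeft A (s : A))) :=
      Module.Flat.lTensor_preserves_injective_linearMap _
        ((injective_iff_map_eq_zero _).mpr fun a ha => (mul_left_mem_nonZeroDivisors_eq_zero_iff s.2).mp ha)
    have h1 : LinearMap.lTensor A' (LinearMap.mulLeft A (s : A)) (z ⊗ₜ[A] (1 : A)) = 0 := by
      rw [LinearMap.lTensor_tmul, LinearMap.mulLeft_apply, mul_one,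
        show (s : A) = (s : A) • (1 : A) by simp, TensorProduct.tmul_smul, TensorProduct.smul_tmul',
        Algebra.smul_def, mul_comm, hz, TensorProduct.zero_tmul]
    have h2 := congrArg (TensorProduct.rid A A') (hinj (h1.trans (map_zero _).symm))
    simpa using h2
  let F : FractionRing A →+* FractionRing A' := IsLocalization.lift hreg
  have hF : ∀ a, F (algebraMap A _ a) = algebraMap A' _ (algebraMap A A' a) := fun a => IsLocalization.lift_eq hreg a
  have hmem : ∀ c : integralClosure A (FractionRing A), F c ∈ integralClosure A' (FractionRing A') := fun c => by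
    obtain ⟨P, hP, hP0⟩ := c.2
    refine ⟨P.map (algebraMap A A'), hP.map _, ?_⟩
    have h1 := congrArg F hP0
    rw [Polynomial.hom_eval₂, map_zero] at h1
    rw [Polynomial.eval₂_map]
    refine Eq.trans ?_ h1
    congr 1
    exact RingHom.ext fun a => (hF a).symm
  let G : integralClosure A (FractionRing A) →+* integralClosure A' (FractionRing A') :=
    { toFun := fun c => ⟨F c, hmem c⟩
      map_one' := Subtype.ext (map_one F)
      map_mul' := fun _ _ => Subtype.ext (map_mul F _ _)
      map_zero' := Subtype.ext (map_zero F)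
      map_add' := fun _ _ => Subtype.ext (map_add F _ _) }
  refine (qRel_bijective_iff η _).mpr ⟨fun a b hab => ?_, fun c hc => ?_⟩
  · exact IsFractionRing.injective A (FractionRing A) (congrArg Subtype.val hab)
  obtain ⟨a', ha'⟩ := hs (G c) (map_mem_rel_of_square η _ (algebraMap A A') G _
    (RingHom.ext fun a => Subtype.ext (hF a).symm) hc)
  obtain ⟨⟨s, t⟩, hst⟩ := IsLocalization.surj (nonZeroDivisors A) (c : FractionRing A)
  have hs' : algebraMap A A' s ∈ (Ideal.span {(t : A)}).map (algebraMap A A') := by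
    rw [Ideal.map_span, Set.image_singleton, Ideal.mem_span_singleton']
    refine ⟨a', IsFractionRing.injective A' (FractionRing A') ?_⟩
    have h1 := congrArg F hst
    rw [map_mul, hF, hF] at h1
    rw [map_mul, ← h1]
    exact congrArg (· * _) (congrArg Subtype.val ha')
  rw [← Ideal.mem_comap, Ideal.comap_map_eq_self_of_faithfullyFlat, Ideal.mem_span_singleton'] at hs'
  obtain ⟨a, ha⟩ := hs'
  refine ⟨a, Subtype.ext ((IsLocalization.map_units (FractionRing A) t).mul_right_cancel ?_)⟩
  show algebraMap A (FractionRing A) a * _ = _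
  rw [← map_mul, ha, hst]

theorem q_bijective_of_normal (hn : EGA4.IsNormalRing A) (hA : (minimalPrimes A).Finite)
    (hη : ∀ p : PrimeSpectrum A, p.asIdeal ∈ minimalPrimes A → Function.Bijective (η.eta p.asIdeal.ResidueField)) :
    Function.Bijective (η.q A) := by
  classical
  have hred : IsReduced A := ⟨fun a ha => by
    refine Module.eq_zero_of_localization_maximal (fun P _ => Localization.AtPrime P)
      (fun P _ => Algebra.linearMap A (Localization.AtPrime P)) a fun P hP => ?_
    have := (hn P).1
    exact (ha.map (algebraMap A (Localization.AtPrime P))).eq_zero⟩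
  refine ⟨fun a b h => t_injective η (congrArg Subtype.val h), fun x => ?_⟩
  let I : Ideal A :=
    { carrier := {s | ∃ a, η.t A s * (x : η.N A) = η.t A a}
      zero_mem' := ⟨0, by rw [map_zero, zero_mul]⟩
      add_mem' := by
        rintro s s' ⟨a, ha⟩ ⟨b, hb⟩
        exact ⟨a + b, by rw [map_add, map_add, add_mul, ha, hb]⟩
      smul_mem' := by
        rintro c s ⟨a, ha⟩
        exact ⟨c * a, by rw [smul_eq_mul, map_mul, map_mul, mul_assoc, ha]⟩ }
  suffices hI : I = ⊤ by
    obtain ⟨a, ha⟩ : (1 : A) ∈ I := by rw [hI]; trivial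
    exact ⟨a, Subtype.ext (by rw [map_one, one_mul] at ha; exact ha.symm)⟩
  by_contra hne
  obtain ⟨m, hm, hIm⟩ := Ideal.exists_le_maximal I hne
  obtain ⟨hdom, hic⟩ := hn m
  let L := Localization.AtPrime m
  let K := FractionRing L
  let h : A →+* K := (algebraMap L K).comp (algebraMap A L)
  let P := Eta.kerPt h
  have hker : ∀ a, a ∈ P.asIdeal → ∃ s ∉ m, s * a = 0 := fun a ha => by
    have h0 : algebraMap A L a = 0 := IsFractionRing.injective L K ((show h a = 0 from ha).trans (map_zero _).symm)
    obtain ⟨⟨s, hs⟩, hs0⟩ := (IsLocalization.map_eq_zero_iff m.primeCompl L a).mp h0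
    exact ⟨s, hs, hs0⟩
  have hPm : P.asIdeal ≤ m := fun a ha => by
    obtain ⟨s, hs, hs0⟩ := hker a ha
    exact (hm.isPrime.mem_or_mem (hs0 ▸ m.zero_mem)).resolve_left hs
  have hPmin : P.asIdeal ∈ minimalPrimes A := ⟨⟨P.isPrime, bot_le⟩, fun Q hQ hQP a ha => by
    obtain ⟨s, hs, hs0⟩ := hker a ha
    exact (hQ.1.mem_or_mem (hs0 ▸ Q.zero_mem)).resolve_left fun h => hs (hPm (hQP h))⟩
  have hbij : Function.Bijective (Eta.kerLift h) := by
    refine ⟨(Eta.kerLift h).injective, fun y => ?_⟩
    obtain ⟨u, v, -, rfl⟩ := IsFractionRing.div_surjective L y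
    have key : ∀ z : L, ∃ w, Eta.kerLift h w = algebraMap L K z := fun z => by
      obtain ⟨⟨a, s⟩, hz⟩ := IsLocalization.surj m.primeCompl z
      refine ⟨algebraMap A _ a / algebraMap A _ (s : A), ?_⟩
      have hsne : h s ≠ 0 := ((IsLocalization.map_units L s).map (algebraMap L K)).ne_zero
      rw [map_div₀, ← RingHom.comp_apply, ← RingHom.comp_apply (Eta.kerLift h), Eta.kerLift_comp, div_eq_iff hsne]
      show algebraMap L K (algebraMap A L a) = algebraMap L K z * algebraMap L K (algebraMap A L s)
      rw [← hz, map_mul]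
    obtain ⟨u', hu'⟩ := key u
    obtain ⟨v', hv'⟩ := key v
    exact ⟨u' / v', by rw [map_div₀, hu', hv']⟩
  have hV : η.InV L := Eta.eta_bijective_of_equiv η (RingEquiv.ofBijective _ hbij) (hη P hPmin)
  obtain ⟨a', ha'⟩ := (Groth.Agent.S13809.result η L hV).2 ⟨_, Eta.Nmap_mem_M η (algebraMap A L) x.2⟩
  obtain ⟨⟨a, s⟩, has⟩ := IsLocalization.surj m.primeCompl a'
  let z : η.N A := η.t A s * (x : η.N A) - η.t A a
  have hzM : z ∈ η.M A := sub_mem (mul_mem (η.t_mem_M A s) x.2) (η.t_mem_M A a)
  have hz : η.Nmap (algebraMap A L) z = 0 := by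
    have hx' : η.Nmap (algebraMap A L) (x : η.N A) = η.t L a' := (congrArg Subtype.val ha').symm
    rw [map_sub, map_mul, η.Nmap_t_apply, η.Nmap_t_apply, hx', ← map_mul, mul_comm, has, sub_self]
  have hz0 : ∀ p : PrimeSpectrum A, p.asIdeal ≤ m → z p = 0 := fun p hp => by
    obtain ⟨q, hq⟩ : ∃ q : PrimeSpectrum L, PrimeSpectrum.comap (algebraMap A L) q = p := by
      have : p ∈ Set.range (PrimeSpectrum.comap (algebraMap A L)) := by
        rw [PrimeSpectrum.localization_comap_range L m.primeCompl]
        exact Set.disjoint_left.mpr fun a ha hap => ha (hp hap)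
      exact this
    subst hq
    exact (η.map (Ideal.ResidueField.map _ q.asIdeal (algebraMap A L) rfl)).injective
      ((congrFun hz q).trans (map_zero _).symm)
  have hfar : ∀ Q ∈ minimalPrimes A, ∃ e ∉ m, ¬ Q ≤ m → e ∈ Q := fun Q hQ => by
    by_cases hQm : Q ≤ m
    · exact ⟨1, fun h => hm.ne_top ((Ideal.eq_top_iff_one _).mpr h), fun h => absurd hQm h⟩
    · obtain ⟨e, he, hem⟩ := SetLike.not_le_iff_exists.mp hQm
      exact ⟨e, hem, fun _ => he⟩
  choose e hem heQ using hfar
  have : Finite (minimalPrimes A) := hA.to_subtype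
  cases nonempty_fintype (minimalPrimes A)
  let s' := ∏ Q : minimalPrimes A, e Q.1 Q.2
  have hs' : s' ∉ m := fun h => by
    obtain ⟨Q, -, hQ⟩ := (hm.isPrime.prod_mem_iff).mp h
    exact hem Q.1 Q.2 hQ
  have hkill : η.t A s' * z = 0 := by
    have hmin : ∀ Q : PrimeSpectrum A, Q.asIdeal ∈ minimalPrimes A → (η.t A s' * z) Q = 0 := fun Q hQ => by
      rw [Pi.mul_apply]
      by_cases hQm : Q.asIdeal ≤ m
      · rw [hz0 Q hQm, mul_zero]
      · rw [(t_apply_eq_zero_iff η Q s').mpr
          (Ideal.prod_mem _ (Finset.mem_univ (⟨Q.asIdeal, hQ⟩ : minimalPrimes A)) (heQ _ hQ hQm)), zero_mul]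
    funext p
    obtain ⟨Q, hQ, hQp⟩ := Ideal.exists_minimalPrimes_le (bot_le : ⊥ ≤ p.asIdeal)
    exact Eta.apply_eq_zero_of_le η (p := ⟨Q, hQ.1.1⟩) hQp (mul_mem (η.t_mem_M A s') hzM) (hmin ⟨Q, hQ.1.1⟩ hQ)
  refine (hm.isPrime.mem_or_mem (hIm (show s' * (s : A) ∈ I from ⟨s' * a, ?_⟩))).elim hs' s.2
  rw [map_mul, map_mul, mul_assoc, ← sub_eq_zero, ← mul_sub]
  exact hkill

end Groth.Agent.EtaRel
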